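import Cfsg.Agent.UniTri.Basic

/-!
Root-subgroup facts in SL_n: conjugacy of transvections (n ≥ 3), centre of the unitriangular group,
radicals of minimal parabolics, generation of the diagonal group by two-entry elements.
-/

set_option autoImplicit false

namespace Cfsg.Agent.UniTri

open Matrix
open Matrix.SpecialLinearGroup (diag2n)

variable {n : ℕ} {K : Type*} [Field K]

/-- The underlying matrix. -/
local notation:max "⇈" A:max => ((A : SpecialLinearGroup (Fin n) K) : Matrix (Fin n) (Fin n) K)

theorem sl_ext {A B : SpecialLinearGroup (Fin n) K} (h : ∀ r l, ⇈A r l = ⇈B r l) : A = B :=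
  Subtype.ext (Matrix.ext h)

/-- A monomial matrix of determinant one. -/
def monomial (σ : Equiv.Perm (Fin n)) (d : Fin n → K)
    (hd : ((Equiv.Perm.sign σ : ℤ) : K) * ∏ i, d i = 1) : SpecialLinearGroup (Fin n) K :=
  ⟨(Matrix.diagonal d).submatrix σ.symm id, by
    rw [Matrix.det_permute, Matrix.det_diagonal, Equiv.Perm.sign_symm]; exact hd⟩

theorem monomial_apply {σ : Equiv.Perm (Fin n)} {d : Fin n → K}
    (hd : ((Equiv.Perm.sign σ : ℤ) : K) * ∏ i, d i = 1) (r l : Fin n) :
    ⇈(monomial σ d hd) r l = if σ.symm r = l then d l else 0 := by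
  show Matrix.diagonal d (σ.symm r) l = _
  rw [Matrix.diagonal_apply]
  split_ifs with h
  · rw [h]
  · rfl

/-- For `n ≥ 3` any two nontrivial elementary transvections are conjugate. -/
theorem exists_conj_tv (hn : 3 ≤ n) {x y : Fin n} (hxy : x ≠ y) {i j : Fin n} (hij : i ≠ j) {a b : K}
    (ha : a ≠ 0) (hb : b ≠ 0) :
    ∃ g : SpecialLinearGroup (Fin n) K,
      g * SpecialLinearGroup.transvection hxy a * g⁻¹ = SpecialLinearGroup.transvection hij b := by
  obtain ⟨z, hzx, hzy⟩ : ∃ z : Fin n, z ≠ x ∧ z ≠ y := by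
    by_contra h
    push Not at h
    have h1 : (Finset.univ : Finset (Fin n)) ⊆ {x, y} := fun z _ => by
      by_cases hz : z = x
      · simp [hz]
      · simp [h z hz]
    have h2 := Finset.card_le_card h1
    have h3 : ({x, y} : Finset (Fin n)).card ≤ 2 := Finset.card_le_two
    simp at h2
    omega
  obtain ⟨σ, hσx, hσy⟩ : ∃ σ : Equiv.Perm (Fin n), σ x = i ∧ σ y = j := by
    refine ⟨Equiv.swap (Equiv.swap x i y) j * Equiv.swap x i, ?_, ?_⟩
    · rw [Equiv.Perm.mul_apply, Equiv.swap_apply_left, Equiv.swap_apply_of_ne_of_ne ?_ hij]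
      intro h
      apply hxy
      have : Equiv.swap x i x = Equiv.swap x i y := (Equiv.swap_apply_left x i).trans h
      exact (Equiv.swap x i).injective this
    · rw [Equiv.Perm.mul_apply, Equiv.swap_apply_left]
  set e : K := ((Equiv.Perm.sign σ : ℤ) : K) with he
  have he1 : e * e = 1 := by
    rw [he]
    rcases Int.units_eq_one_or (Equiv.Perm.sign σ) with h | h <;> simp [h]
  let d : Fin n → K := fun l => if l = x then b / a else if l = z then e * (a / b) else 1
  have hd : e * ∏ l, d l = 1 := by
    rw [Finset.prod_eq_mul x z hzx.symm (fun c _ hc => by simp [d, hc.1, hc.2]) (by simp) (by simp)]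
    rw [show d x = b / a from if_pos rfl, show d z = e * (a / b) from (if_neg hzx).trans (if_pos rfl)]
    field_simp
    linear_combination he1
  refine ⟨monomial σ d hd, ?_⟩
  rw [mul_inv_eq_iff_eq_mul]
  refine sl_ext fun r l => ?_
  rw [mul_tv_apply, tv_mul_apply, monomial_apply, monomial_apply, monomial_apply]
  have hdy : d y = 1 := by simp [d, hxy.symm, hzy.symm]
  have hdx : d x = b / a := by simp [d]
  have hr : σ.symm r = x ↔ r = i := by rw [Equiv.symm_apply_eq, hσx]
  have hsj : σ.symm j = y := by rw [← hσy]; exact σ.symm_apply_apply y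
  rw [hsj]
  congr 1
  by_cases hl : l = y
  · subst hl
    by_cases hri : r = i
    · have hix : σ.symm i = x := by rw [← hσx]; exact σ.symm_apply_apply x
      simp [hri, hix, hdy, hdx, ha]
    · simp [hri, mt hr.1 hri, hdy]
  · simp [hl, Ne.symm hl]

/-- A central element of the unitriangular group is a corner transvection. -/
theorem central_eq_corner {x : SpecialLinearGroup (Fin n) K} (hx : x ∈ unitri n K)
    (hc : ∀ (i j : Fin n) (hij : i < j), SpecialLinearGroup.transvection hij.ne (1 : K) * x =
      x * SpecialLinearGroup.transvection hij.ne (1 : K))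
    {o t : Fin n} (hot : o < t) (ho : ∀ i, o ≤ i) (ht : ∀ i, i ≤ t) :
    x = SpecialLinearGroup.transvection hot.ne (⇈x o t) := by
  obtain ⟨hU, hD⟩ := mem_unitri.1 hx
  refine sl_ext fun r l => ?_
  rw [tv_apply]
  rcases lt_trichotomy r l with h | h | h
  · rw [Matrix.one_apply_ne h.ne, zero_add]
    by_cases hrl : r = o ∧ l = t
    · rw [if_pos hrl, hrl.1, hrl.2]
    · rw [if_neg hrl]
      by_cases hr : r = o
      · have hlt : l < t := lt_of_le_of_ne (ht l) fun e => hrl ⟨hr, e⟩
        have e1 : (⇈(SpecialLinearGroup.transvection hlt.ne (1 : K) * x)) r t =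
            (⇈(x * SpecialLinearGroup.transvection hlt.ne (1 : K))) r t := by rw [hc l t hlt]
        rw [tv_mul_apply, mul_tv_apply, if_neg h.ne, if_pos rfl, mul_one] at e1
        exact (add_left_cancel e1).symm
      · have hor : o < r := lt_of_le_of_ne (ho r) (Ne.symm hr)
        have e1 : (⇈(SpecialLinearGroup.transvection hor.ne (1 : K) * x)) o l =
            (⇈(x * SpecialLinearGroup.transvection hor.ne (1 : K))) o l := by rw [hc o r hor]
        rw [tv_mul_apply, mul_tv_apply, if_pos rfl, if_neg h.ne', one_mul] at e1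
        exact add_left_cancel e1
  · subst h
    rw [hD, Matrix.one_apply_eq, if_neg, add_zero]
    rintro ⟨rfl, h2⟩
    exact hot.ne h2
  · rw [hU r l h, Matrix.one_apply_ne h.ne', if_neg, add_zero]
    rintro ⟨rfl, rfl⟩
    exact lt_asymm h hot

/-- Entry next to the diagonal of a product of unitriangular matrices. -/
theorem entry_mul {k k1 : Fin n} (hk : k < k1) (hadj : ∀ m, k < m → k1 ≤ m)
    {A B : SpecialLinearGroup (Fin n) K} (hA : A ∈ unitri n K) (hB : B ∈ unitri n K) :
    ⇈(A * B) k k1 = ⇈A k k1 + ⇈B k k1 := by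
  show (⇈A * ⇈B) k k1 = _
  rw [Matrix.mul_apply, Finset.sum_eq_add k k1 hk.ne]
  · rw [hA.2, hB.2, one_mul, mul_one]
    exact add_comm _ _
  · intro c _ hc
    rcases lt_or_gt_of_ne hc.1 with h | h
    · rw [(mem_unitri.1 hA).1 k c h, zero_mul]
    · rw [(mem_unitri.1 hB).1 c k1 (lt_of_le_of_ne (hadj c h) (Ne.symm hc.2)), mul_zero]
  · simp
  · simp

/-- The unitriangular matrices with zero `(k, k+1)` entry. -/
def radical (k k1 : Fin n) (hk : k < k1) (hadj : ∀ m, k < m → k1 ≤ m) :
    Subgroup (SpecialLinearGroup (Fin n) K) where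
  carrier := {A | A ∈ unitri n K ∧ ⇈A k k1 = 0}
  mul_mem' {A B} hA hB := ⟨(unitri n K).mul_mem hA.1 hB.1, by
    rw [entry_mul hk hadj hA.1 hB.1, hA.2, hB.2, add_zero]⟩
  one_mem' := ⟨(unitri n K).one_mem, Matrix.one_apply_ne hk.ne⟩
  inv_mem' {A} hA := ⟨(unitri n K).inv_mem hA.1, by
    have h := entry_mul hk hadj hA.1 ((unitri n K).inv_mem hA.1)
    rw [mul_inv_cancel, hA.2, zero_add] at h
    rw [← h]; exact Matrix.one_apply_ne hk.ne⟩

theorem tv_mem_radical {k k1 : Fin n} (hk : k < k1) (hadj : ∀ m, k < m → k1 ≤ m) {a b : Fin n} (hab : a < b)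
    (hne : ¬ (a = k ∧ b = k1)) (c : K) :
    SpecialLinearGroup.transvection hab.ne c ∈ radical (K := K) k k1 hk hadj := by
  refine ⟨tv_mem hab c, ?_⟩
  rw [tv_apply, Matrix.one_apply_ne hk.ne, if_neg, add_zero]
  rintro ⟨rfl, rfl⟩
  exact hne ⟨rfl, rfl⟩

/-- The radical is normalized by the unitriangular group. -/
theorem unitri_conj_radical {k k1 : Fin n} (hk : k < k1) (hadj : ∀ m, k < m → k1 ≤ m)
    {u A : SpecialLinearGroup (Fin n) K} (hu : u ∈ unitri n K) (hA : A ∈ radical (K := K) k k1 hk hadj) :
    u * A * u⁻¹ ∈ radical (K := K) k k1 hk hadj := by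
  refine ⟨(unitri n K).mul_mem ((unitri n K).mul_mem hu hA.1) ((unitri n K).inv_mem hu), ?_⟩
  rw [entry_mul hk hadj ((unitri n K).mul_mem hu hA.1) ((unitri n K).inv_mem hu), entry_mul hk hadj hu hA.1,
    hA.2, add_zero, ← entry_mul hk hadj hu ((unitri n K).inv_mem hu), mul_inv_cancel]
  exact Matrix.one_apply_ne hk.ne

/-- The radical is normalized by the opposite root elements. -/
theorem lower_conj_radical {k k1 : Fin n} (hk : k < k1) (hadj : ∀ m, k < m → k1 ≤ m)
    (c : K) {A : SpecialLinearGroup (Fin n) K} (hA : A ∈ radical (K := K) k k1 hk hadj) :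
    SpecialLinearGroup.transvection hk.ne' c * A * (SpecialLinearGroup.transvection hk.ne' c)⁻¹
      ∈ radical (K := K) k k1 hk hadj := by
  obtain ⟨hU, hD⟩ := mem_unitri.1 hA.1
  have h0 : ⇈A k k1 = 0 := hA.2
  rw [Matrix.SpecialLinearGroup.transvection_inv]
  have hval : ∀ r l, ⇈(SpecialLinearGroup.transvection hk.ne' c * A * SpecialLinearGroup.transvection hk.ne' (-c)) r l
      = (⇈A r l + if r = k1 then c * ⇈A k l else 0) +
        if l = k then (⇈A r k1 + if r = k1 then c * ⇈A k k1 else 0) * (-c) else 0 := by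
    intro r l
    rw [mul_tv_apply, tv_mul_apply, tv_mul_apply]
  refine ⟨mem_unitri.2 ⟨fun r l hlr => ?_, fun r => ?_⟩, ?_⟩
  · rw [hval, hU r l hlr, h0]
    by_cases hr : r = k1
    · subst hr
      by_cases hl : l = k
      · subst hl; simp [hD]
      · rcases lt_or_gt_of_ne hl with h | h
        · simp [hl, hU k l h]
        · exact absurd (hadj l h) (not_le.2 hlr)
    · by_cases hl : l = k
      · subst hl
        have : k1 < r := lt_of_le_of_ne (hadj r hlr) (Ne.symm hr)
        simp [hr, hU r k1 this]
      · simp [hr, hl]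
  · rw [hval, h0, hD]
    by_cases hr : r = k1
    · subst hr; simp [h0, hk.ne']
    · by_cases hl : r = k
      · subst hl; simp [hk.ne, h0]
      · simp [hr, hl]
  · rw [hval, h0]; simp [hk.ne, hk.ne']

/-- The radical contains its centralizer in the unitriangular group (`n ≥ 3`). -/
theorem centralizer_radical (hn : 3 ≤ n) {k k1 : Fin n} (hk : k < k1) (hadj : ∀ m, k < m → k1 ≤ m)
    {u : SpecialLinearGroup (Fin n) K} (hu : u ∈ unitri n K)
    (hc : ∀ A ∈ radical (K := K) k k1 hk hadj, u * A = A * u) : u ∈ radical (K := K) k k1 hk hadj := by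
  refine ⟨hu, ?_⟩
  by_cases hlast : ∃ l, k1 < l
  · obtain ⟨l, hl⟩ := hlast
    have h := hc _ (tv_mem_radical hk hadj hl (fun h => hk.ne' h.1) 1)
    have e : ⇈(u * SpecialLinearGroup.transvection hl.ne (1 : K)) k l =
        ⇈(SpecialLinearGroup.transvection hl.ne (1 : K) * u) k l := by rw [h]
    rw [mul_tv_apply, tv_mul_apply, if_pos rfl, if_neg hk.ne, mul_one] at e
    exact add_left_cancel e
  · push Not at hlast
    have h0 : 0 < (k : ℕ) := by
      by_contra h
      have h1 : (k : ℕ) = 0 := by omega
      have h2 : (k1 : ℕ) ≤ 1 := hadj ⟨1, by omega⟩ (show (k : ℕ) < 1 by omega)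
      have h3 : (2 : ℕ) ≤ k1 := hlast ⟨2, by omega⟩
      omega
    have hok : (⟨0, by omega⟩ : Fin n) < k := h0
    have h := hc _ (tv_mem_radical hk hadj hok (fun h => hok.ne h.1) 1)
    have e : ⇈(u * SpecialLinearGroup.transvection hok.ne (1 : K)) ⟨0, by omega⟩ k1 =
        ⇈(SpecialLinearGroup.transvection hok.ne (1 : K) * u) ⟨0, by omega⟩ k1 := by rw [h]
    rw [mul_tv_apply, tv_mul_apply, if_neg hk.ne', if_pos rfl, one_mul] at e
    exact (add_left_cancel e).symm

/-- Two-entry diagonal elements normalize the unitriangular group. -/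
theorem diag2n_conj_unitri {i j : Fin n} (hij : i ≠ j) (a : K) (ha : a ≠ 0)
    {u : SpecialLinearGroup (Fin n) K} (hu : u ∈ unitri n K) :
    diag2n hij a ha * u * (diag2n hij a ha)⁻¹ ∈ unitri n K := by
  obtain ⟨hU, hD⟩ := mem_unitri.1 hu
  set h := diag2n hij a ha
  set w := h * u * h⁻¹ with hw
  have e : h * u = w * h := by rw [hw, inv_mul_cancel_right]
  set d : Fin n → K := fun k => if k = i then a else if k = j then a⁻¹ else 1
  have hd : ∀ k, d k ≠ 0 := fun k => by
    simp only [d]; split_ifs <;> simp [ha]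
  have he : ∀ r l, d r * ⇈u r l = ⇈w r l * d l := by
    intro r l
    have : ⇈(h * u) r l = ⇈(w * h) r l := by rw [e]
    rw [show ⇈(h * u) = Matrix.diagonal d * ⇈u from rfl, show ⇈(w * h) = ⇈w * Matrix.diagonal d from rfl,
      Matrix.diagonal_mul, Matrix.mul_diagonal] at this
    exact this
  refine mem_unitri.2 ⟨fun r l hlr => ?_, fun r => ?_⟩
  · have := he r l
    rw [hU r l hlr, mul_zero] at this
    rcases mul_eq_zero.1 this.symm with h' | h'
    · exact h'
    · exact absurd h' (hd l)
  · have := he r r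
    rw [hD, mul_one] at this
    exact mul_right_cancel₀ (hd r) (this.symm.trans (one_mul _).symm)

/-- A subgroup containing the two-entry diagonal elements at adjacent places and the unitriangular group
contains all upper triangular elements. -/
theorem upper_le (H : Subgroup (SpecialLinearGroup (Fin n) K)) (hU : unitri n K ≤ H)
    (hh : ∀ (k k1 : Fin n) (hk : k < k1), (∀ m, k < m → k1 ≤ m) → ∀ (a : K) (ha : a ≠ 0),
      diag2n hk.ne a ha ∈ H) {g : SpecialLinearGroup (Fin n) K} (hg : (⇈g).BlockTriangular id) : g ∈ H := by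
  suffices key : ∀ (j : ℕ) (d : Fin n → K) (hd : (Matrix.diagonal d).det = 1),
      (∀ i : Fin n, (i : ℕ) + j < n → d i = 1) → (⟨Matrix.diagonal d, hd⟩ : SpecialLinearGroup (Fin n) K) ∈ H by
    have hd : (Matrix.diagonal fun i => ⇈g i i).det = 1 := by
      rw [Matrix.det_diagonal]
      have := g.2
      rw [Matrix.det_of_isUpperTriangular hg] at this
      exact this
    set D : SpecialLinearGroup (Fin n) K := ⟨Matrix.diagonal fun i => ⇈g i i, hd⟩
    have hm := key n _ hd (fun i h => by omega)
    have hu : D⁻¹ * g ∈ unitri n K := by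
      set u := D⁻¹ * g with hu
      have e : D * u = g := by rw [hu, mul_inv_cancel_left]
      have he : ∀ r l, ⇈g r r * ⇈u r l = ⇈g r l := by
        intro r l
        have : ⇈(D * u) r l = ⇈g r l := by rw [e]
        rwa [show ⇈(D * u) = (Matrix.diagonal fun i => ⇈g i i) * ⇈u from rfl, Matrix.diagonal_mul] at this
      refine mem_unitri.2 ⟨fun r l hlr => ?_, fun r => ?_⟩
      · have := he r l
        rw [hg (show id l < id r from hlr)] at this
        exact (mul_eq_zero.1 this).resolve_left (diag_ne_zero hg r)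
      · exact mul_left_cancel₀ (diag_ne_zero hg r) ((he r r).trans (mul_one _).symm)
    have := H.mul_mem (show D ∈ H from hm) (hU hu)
    rwa [mul_inv_cancel_left] at this
  intro j
  induction j with
  | zero =>
    intro d hd h
    have : (⟨Matrix.diagonal d, hd⟩ : SpecialLinearGroup (Fin n) K) = (1 : SpecialLinearGroup (Fin n) K) := sl_ext fun r l => by
      show Matrix.diagonal d r l = (1 : Matrix (Fin n) (Fin n) K) r l
      rw [← Matrix.diagonal_one, show d = fun _ => (1 : K) from funext fun i => h i (by omega)]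
    rw [this]; exact H.one_mem
  | succ j ih =>
    intro d hd h
    by_cases hj : j + 1 ≤ n
    · set k : Fin n := ⟨n - (j + 1), by omega⟩ with hkdef
      have hd0 : ∀ i, d i ≠ 0 := fun i hi => by
        rw [Matrix.det_diagonal, Finset.prod_eq_zero (Finset.mem_univ i) hi] at hd
        exact zero_ne_one hd
      by_cases hj0 : j = 0
      · subst hj0
        refine ih d hd fun i _ => ?_
        by_cases hik : i = k
        · subst hik
          rw [Matrix.det_diagonal, Finset.prod_eq_single k (fun b _ hb => h b (by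
            have : (b : ℕ) ≠ k := fun e => hb (Fin.ext e)
            simp [hkdef] at this ⊢; omega)) (by simp)] at hd
          exact hd
        · exact h i (by
            have : (i : ℕ) ≠ k := fun e => hik (Fin.ext e)
            simp [hkdef] at this ⊢; omega)
      · set k1 : Fin n := ⟨n - j, by omega⟩ with hk1def
        have hk : k < k1 := show n - (j + 1) < n - j by omega
        have hadj : ∀ m, k < m → k1 ≤ m := fun m hm => show n - j ≤ (m : ℕ) by
          have : n - (j + 1) < (m : ℕ) := hm
          omega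
        set a := d k
        set e : Fin n → K := fun i => if i = k then a else if i = k1 then a⁻¹ else 1 with hedef
        have he0 : ∀ i, e i ≠ 0 := fun i => by
          simp only [hedef]; split_ifs <;> simp [a, hd0 k]
        have hd' : (Matrix.diagonal fun i => d i / e i).det = 1 := by
          rw [Matrix.det_diagonal, Finset.prod_div_distrib]
          have h2 : ∏ i, e i = 1 := by
            have := (diag2n hk.ne a (hd0 k) : SpecialLinearGroup (Fin n) K).2
            rwa [show (diag2n hk.ne a (hd0 k) : SpecialLinearGroup (Fin n) K).1 = Matrix.diagonal e from rfl,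
              Matrix.det_diagonal] at this
          rw [Matrix.det_diagonal] at hd
          rw [h2, hd, div_one]
        have hrec := ih (fun i => d i / e i) hd' fun i hi => by
          by_cases hik : i = k
          · subst hik; simp [hedef, a, hd0 k]
          · have hik1 : i ≠ k1 := fun e' => by subst e'; simp [hk1def] at hi; omega
            have : (i : ℕ) ≠ k := fun e' => hik (Fin.ext e')
            simp only [hedef, if_neg hik, if_neg hik1, div_one]
            exact h i (by simp [hkdef] at this ⊢; omega)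
        have hprod := H.mul_mem hrec (hh k k1 hk hadj a (hd0 k))
        have : (⟨Matrix.diagonal d, hd⟩ : SpecialLinearGroup (Fin n) K) =
            ⟨Matrix.diagonal fun i => d i / e i, hd'⟩ * diag2n hk.ne a (hd0 k) := Subtype.ext (by
          show Matrix.diagonal d = (Matrix.diagonal fun i => d i / e i) * Matrix.diagonal e
          rw [Matrix.diagonal_mul_diagonal]
          congr 1; funext i; rw [div_mul_cancel₀ _ (he0 i)])
        rw [this]; exact hprod
    · exact ih d hd fun i hi => absurd hi (by omega)

end Cfsg.Agent.UniTri
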