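import Mathlib

/-!
Upper unitriangular matrices in SL_n over a field: a p-group in characteristic p, generated by positive
transvections, with normalizer the upper triangular matrices; a Sylow p-subgroup over a finite field.
-/

set_option autoImplicit false

namespace Cfsg.Agent.UniTri

open Matrix
open scoped MatrixGroups


variable {n : ℕ} {K : Type*} [Field K]

/-- The underlying matrix. -/
local notation:max "⇈" A:max => ((A : SpecialLinearGroup (Fin n) K) : Matrix (Fin n) (Fin n) K)

variable (n K) in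
/-- The upper unitriangular subgroup of SL_n. -/
def unitri : Subgroup (SpecialLinearGroup (Fin n) K) where
  carrier := {A | (⇈A).BlockTriangular id ∧ ∀ i, ⇈A i i = 1}
  mul_mem' {A B} hA hB := by
    refine ⟨hA.1.mul hB.1, fun i => ?_⟩
    show (⇈A * ⇈B) i i = 1
    rw [Matrix.mul_apply, Finset.sum_eq_single i]
    · rw [hA.2, hB.2, one_mul]
    · intro k _ hk
      rcases lt_or_gt_of_ne hk with h | h
      · rw [hA.1 (show id k < id i from h), zero_mul]
      · rw [hB.1 (show id i < id k from h), mul_zero]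
    · simp
  one_mem' := ⟨Matrix.blockTriangular_one, fun i => Matrix.one_apply_eq i⟩
  inv_mem' {A} hA := by
    have hl : ⇈(A⁻¹) * ⇈A = 1 := congrArg (fun X : SpecialLinearGroup (Fin n) K => ⇈X) (inv_mul_cancel A)
    have hr : ⇈A * ⇈(A⁻¹) = 1 := congrArg (fun X : SpecialLinearGroup (Fin n) K => ⇈X) (mul_inv_cancel A)
    haveI : Invertible ⇈A := invertibleOfLeftInverse _ _ hl
    have hinv : ⇈(A⁻¹) = (⇈A)⁻¹ := (Matrix.inv_eq_left_inv hl).symm
    have hT : (⇈(A⁻¹)).BlockTriangular id := by rw [hinv]; exact Matrix.blockTriangular_inv_of_blockTriangular hA.1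
    refine ⟨hT, fun i => ?_⟩
    have h1 : (⇈A * ⇈(A⁻¹)) i i = 1 := by rw [hr, Matrix.one_apply_eq]
    rw [Matrix.mul_apply, Finset.sum_eq_single i] at h1
    · rwa [hA.2, one_mul] at h1
    · intro k _ hk
      rcases lt_or_gt_of_ne hk with h | h
      · rw [hA.1 (show id k < id i from h), zero_mul]
      · rw [hT (show id i < id k from h), mul_zero]
    · simp

theorem mem_unitri {A : SpecialLinearGroup (Fin n) K} :
    A ∈ unitri n K ↔ (∀ i j : Fin n, j < i → ⇈A i j = 0) ∧ ∀ i, ⇈A i i = 1 :=
  ⟨fun h => ⟨fun _ _ hij => h.1 hij, h.2⟩, fun h => ⟨fun _ _ hij => h.1 _ _ hij, h.2⟩⟩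

/-- Entry of a product with a transvection on the left. -/
theorem tv_mul_apply {i j : Fin n} (hij : i ≠ j) (c : K) (A : SpecialLinearGroup (Fin n) K) (r l : Fin n) :
    ⇈(SpecialLinearGroup.transvection hij c * A) r l = ⇈A r l + if r = i then c * ⇈A j l else 0 := by
  show ((1 + Matrix.single i j c) * ⇈A) r l = _
  rw [Matrix.add_mul, Matrix.one_mul, Matrix.add_apply]
  by_cases h : r = i
  · subst h; rw [if_pos rfl, Matrix.single_mul_apply_same]
  · rw [if_neg h, Matrix.single_mul_apply_of_ne _ _ _ _ _ h]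

/-- Entry of a product with a transvection on the right. -/
theorem mul_tv_apply {i j : Fin n} (hij : i ≠ j) (c : K) (A : SpecialLinearGroup (Fin n) K) (r l : Fin n) :
    ⇈(A * SpecialLinearGroup.transvection hij c) r l = ⇈A r l + if l = j then ⇈A r i * c else 0 := by
  show (⇈A * (1 + Matrix.single i j c)) r l = _
  rw [Matrix.mul_add, Matrix.mul_one, Matrix.add_apply]
  by_cases h : l = j
  · subst h; rw [if_pos rfl, Matrix.mul_single_apply_same]
  · rw [if_neg h, Matrix.mul_single_apply_of_ne (hbj := h)]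

theorem tv_apply {i j : Fin n} (hij : i ≠ j) (c : K) (r l : Fin n) :
    ⇈(SpecialLinearGroup.transvection hij c) r l =
      (1 : Matrix (Fin n) (Fin n) K) r l + if r = i ∧ l = j then c else 0 := by
  show (1 + Matrix.single i j c : Matrix (Fin n) (Fin n) K) r l = _
  rw [Matrix.add_apply, Matrix.single_apply]
  congr 1
  by_cases h : r = i ∧ l = j
  · rw [if_pos h, if_pos ⟨h.1.symm, h.2.symm⟩]
  · rw [if_neg h, if_neg (fun hh => h ⟨hh.1.symm, hh.2.symm⟩)]

theorem tv_mem {i j : Fin n} (hij : i < j) (c : K) :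
    SpecialLinearGroup.transvection hij.ne c ∈ unitri n K := by
  refine mem_unitri.2 ⟨fun r l hlr => ?_, fun r => ?_⟩
  · rw [tv_apply, Matrix.one_apply_ne hlr.ne', if_neg, add_zero]
    rintro ⟨rfl, rfl⟩
    exact lt_asymm hij hlr
  · rw [tv_apply, Matrix.one_apply_eq, if_neg, add_zero]
    rintro ⟨rfl, rfl⟩
    exact lt_irrefl _ hij

/-- A subgroup containing the positive transvections contains the unitriangular group. -/
theorem unitri_le (H : Subgroup (SpecialLinearGroup (Fin n) K))
    (hH : ∀ (i j : Fin n) (hij : i < j) (c : K), SpecialLinearGroup.transvection hij.ne c ∈ H) :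
    unitri n K ≤ H := by
  classical
  intro A hA
  induction hc : (Finset.univ.filter fun x : Fin n × Fin n => x.1 ≠ x.2 ∧ ⇈A x.1 x.2 ≠ 0).card
      using Nat.strong_induction_on generalizing A with
  | _ m ih =>
    obtain ⟨hU, hD⟩ := mem_unitri.1 hA
    by_cases he : ∀ r l : Fin n, r ≠ l → ⇈A r l = 0
    · have : A = 1 := Subtype.ext (Matrix.ext fun r l => by
        by_cases h : r = l
        · subst h; rw [hD]; simp
        · rw [he r l h]; simp [Matrix.one_apply_ne h])
      rw [this]; exact H.one_mem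
    · push Not at he
      obtain ⟨j, hj, hjmax⟩ := (Finset.univ.filter fun l : Fin n => ∃ r, r ≠ l ∧ ⇈A r l ≠ 0).exists_max_image
        id (by obtain ⟨r, l, h1, h2⟩ := he; exact ⟨l, Finset.mem_filter.2 ⟨Finset.mem_univ _, r, h1, h2⟩⟩)
      obtain ⟨i, hij, hne⟩ := (Finset.mem_filter.1 hj).2
      have hlt : i < j := lt_of_le_of_ne (not_lt.1 fun h => hne (hU i j h)) hij
      have hrow : ∀ l, l ≠ j → ⇈A j l = 0 := by
        intro l hl
        rcases lt_or_gt_of_ne hl with h | h
        · exact hU j l h
        · by_contra h0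
          exact absurd (hjmax l (Finset.mem_filter.2 ⟨Finset.mem_univ _, j, h.ne, h0⟩)) (not_le.2 h)
      set B := SpecialLinearGroup.transvection hlt.ne (-(⇈A i j)) * A with hB
      have hBe : ∀ r l, ⇈B r l = if r = i ∧ l = j then 0 else ⇈A r l := by
        intro r l
        rw [hB, tv_mul_apply]
        by_cases hr : r = i
        · subst hr
          by_cases hl : l = j
          · subst hl; simp [hD]
          · simp [hl, hrow l hl]
        · simp [hr]
      have hBU : B ∈ unitri n K := (unitri n K).mul_mem (tv_mem hlt _) hA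
      have hlt' : (Finset.univ.filter fun x : Fin n × Fin n => x.1 ≠ x.2 ∧ ⇈B x.1 x.2 ≠ 0).card < m := by
        rw [← hc]
        refine Finset.card_lt_card ⟨fun x hx => ?_, fun h => ?_⟩
        · simp only [Finset.mem_filter, Finset.mem_univ, true_and, hBe] at hx ⊢
          refine ⟨hx.1, fun h0 => hx.2 ?_⟩
          split <;> simp [h0]
        · have := h (show (i, j) ∈ _ from Finset.mem_filter.2 ⟨Finset.mem_univ _, hij, hne⟩)
          simp [hBe] at this
      have := ih _ hlt' hBU rfl
      have hA' : A = (SpecialLinearGroup.transvection hlt.ne (-(⇈A i j)))⁻¹ * B := by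
        rw [hB, inv_mul_cancel_left]
      rw [hA']
      exact H.mul_mem (H.inv_mem (hH i j hlt _)) this

/-- In characteristic p the unitriangular group is a p-group. -/
theorem isPGroup_unitri (p : ℕ) [Fact p.Prime] [CharP K p] : IsPGroup p (unitri n K) := by
  intro ⟨A, hA⟩
  obtain ⟨hU, hD⟩ := mem_unitri.1 hA
  refine ⟨n, Subtype.ext (Subtype.ext ?_)⟩
  show ⇈(A ^ p ^ n) = 1
  refine (Matrix.SpecialLinearGroup.coe_pow A _).trans ?_
  set N := ⇈A - 1 with hN
  have hk : ∀ k : ℕ, ∀ i j : Fin n, (j : ℕ) < (i : ℕ) + k → (N ^ k) i j = 0 := by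
    intro k
    induction k with
    | zero => intro i j h; rw [pow_zero, Matrix.one_apply_ne]; rintro rfl; omega
    | succ k ih =>
      intro i j h
      rw [pow_succ, Matrix.mul_apply]
      refine Finset.sum_eq_zero fun l _ => ?_
      by_cases hl : (l : ℕ) < (i : ℕ) + k
      · rw [ih i l hl, zero_mul]
      · have hjl : (j : ℕ) ≤ (l : ℕ) := by omega
        have : N l j = 0 := by
          rcases eq_or_lt_of_le hjl with h1 | h1
          · have : j = l := Fin.ext h1
            subst this
            simp [hN, hD]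
          · have h2 : j < l := h1
            simp [hN, hU l j h2, h2.ne']
        rw [this, mul_zero]
  have hnil : N ^ n = 0 := Matrix.ext fun i j => hk n i j (by have := j.2; omega)
  have hpn : n ≤ p ^ n := (Nat.lt_pow_self (Fact.out : p.Prime).one_lt).le
  rcases Nat.eq_zero_or_pos n with hn | hn
  · subst hn; exact Matrix.ext fun i => i.elim0
  · haveI : Nonempty (Fin n) := ⟨⟨0, hn⟩⟩
    have : ⇈A ^ p ^ n = N ^ p ^ n + 1 := by
      have := add_pow_char_pow_of_commute (R := Matrix (Fin n) (Fin n) K) p n (Commute.one_right N)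
      rw [hN, sub_add_cancel, one_pow] at this
      exact this
    rw [this, pow_eq_zero_of_le hpn hnil, zero_add]

/-- Elements normalizing the unitriangular group are upper triangular. -/
theorem blockTriangular_of_mem_normalizer {g : SpecialLinearGroup (Fin n) K}
    (hg : g ∈ Subgroup.normalizer (unitri n K : Set (SpecialLinearGroup (Fin n) K))) :
    (⇈g).BlockTriangular id := by
  intro j l (hlj : l < j)
  by_contra hne
  have hzero : ∀ i : Fin n, i < j → ∀ k : Fin n, l ≤ k → ⇈(g⁻¹) k i = 0 := by
    intro i hij k hlk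
    have hm := (Subgroup.mem_normalizer_iff''.1 hg _).1 (tv_mem hij (1 : K))
    obtain ⟨hU, hD⟩ := mem_unitri.1 hm
    have hval : ⇈((g⁻¹ * SpecialLinearGroup.transvection hij.ne (1 : K)) * g) k l =
        (1 : Matrix (Fin n) (Fin n) K) k l + ⇈(g⁻¹) k i * ⇈g j l := by
      show (⇈(g⁻¹ * SpecialLinearGroup.transvection hij.ne (1 : K)) * ⇈g) k l = _
      rw [Matrix.mul_apply]
      simp_rw [mul_tv_apply, add_mul, mul_one]
      rw [Finset.sum_add_distrib]
      congr 1
      · rw [← Matrix.mul_apply]
        exact congrFun (congrFun (congrArg (fun X : SpecialLinearGroup (Fin n) K => ⇈X) (inv_mul_cancel g)) k) l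
      · simp
    rcases eq_or_lt_of_le hlk with h | h
    · subst h
      rw [hD l, Matrix.one_apply_eq] at hval
      simpa [hne] using hval.symm
    · rw [hU k l h, Matrix.one_apply_ne h.ne'] at hval
      simpa [hne] using hval.symm
  let f : Fin (j : ℕ) → (Fin (l : ℕ) → K) := fun i k =>
    ⇈(g⁻¹) ⟨(k : ℕ), k.2.trans l.2⟩ ⟨(i : ℕ), i.2.trans j.2⟩
  have hind : LinearIndependent K f := by
    rw [Fintype.linearIndependent_iff]
    intro c hc i
    let v : Fin n → K := fun m => if h : (m : ℕ) < j then c ⟨m, h⟩ else 0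
    have vA : ∀ a : Fin (j : ℕ), v ⟨(a : ℕ), a.2.trans j.2⟩ = c a := fun a => dif_pos a.2
    have vB : ∀ m : Fin n, ¬ (m : ℕ) < j → v m = 0 := fun m h => dif_neg h
    have hmv : ⇈(g⁻¹) *ᵥ v = 0 := by
      funext k
      show ∑ m, ⇈(g⁻¹) k m * v m = 0
      by_cases hk : (k : ℕ) < l
      · have := congrFun hc ⟨k, hk⟩
        simp only [Finset.sum_apply, Pi.smul_apply, Pi.zero_apply, smul_eq_mul] at this
        rw [← this]
        symm
        refine Finset.sum_of_injOn (fun i : Fin (j : ℕ) => (⟨(i : ℕ), i.2.trans j.2⟩ : Fin n)) ?_ ?_ ?_ ?_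
        · intro a _ b _ hab; exact Fin.ext (congrArg Fin.val hab :)
        · intro a _; simp
        · intro m _ hm
          rw [vB m fun h => hm ⟨⟨m, h⟩, by simp, rfl⟩, mul_zero]
        · intro a _
          rw [vA a]
          exact mul_comm _ _
      · refine Finset.sum_eq_zero fun m _ => ?_
        by_cases hm : (m : ℕ) < j
        · rw [hzero m hm k (not_lt.1 (fun h => hk h)), zero_mul]
        · rw [vB m hm, mul_zero]
    have : v = 0 := by
      have h2 := congrArg (⇈g *ᵥ ·) hmv
      simp only [Matrix.mulVec_mulVec, Matrix.mulVec_zero] at h2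
      rwa [show ⇈g * ⇈(g⁻¹) = 1 from congrArg (fun X : SpecialLinearGroup (Fin n) K => ⇈X) (mul_inv_cancel g),
        Matrix.one_mulVec] at h2
    have := congrFun this ⟨(i : ℕ), i.2.trans j.2⟩
    exact (vA i).symm.trans this
  have := hind.fintype_card_le_finrank
  simp at this
  exact absurd this (not_le.2 hlj)

/-- The diagonal of an upper triangular element of SL_n, as units. -/
theorem diag_ne_zero {g : SpecialLinearGroup (Fin n) K} (hg : (⇈g).BlockTriangular id) (i : Fin n) :
    ⇈g i i ≠ 0 := fun h => by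
  have := g.2
  rw [Matrix.det_of_isUpperTriangular hg] at this
  exact zero_ne_one ((Finset.prod_eq_zero (f := fun k => ⇈g k k) (Finset.mem_univ i) h).symm.trans this)

/-- The unitriangular group is a Sylow p-subgroup of SL_n over a finite field of characteristic p. -/
theorem exists_sylow [Finite K] (p : ℕ) [Fact p.Prime] [CharP K p] :
    ∃ P : Sylow p (SpecialLinearGroup (Fin n) K), (P : Subgroup _) = unitri n K := by
  obtain ⟨P, hP⟩ := (isPGroup_unitri (n := n) (K := K) p).exists_le_sylow
  refine ⟨P, le_antisymm ?_ hP⟩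
  by_contra hle
  haveI := P.isPGroup'.isNilpotent
  have hlt : (unitri n K).subgroupOf (P : Subgroup _) < ⊤ := by
    rw [lt_top_iff_ne_top, Ne, Subgroup.subgroupOf_eq_top]; exact hle
  obtain ⟨x, hx, hxU⟩ := SetLike.exists_of_lt (Group.normalizerCondition_of_isNilpotent _ hlt)
  rw [← Subgroup.subgroupOf_normalizer_eq hP] at hx
  apply hxU
  have hT : (⇈(x : SpecialLinearGroup (Fin n) K)).BlockTriangular id := blockTriangular_of_mem_normalizer hx
  obtain ⟨k, hk⟩ := P.isPGroup' x
  have hk' : ⇈(x : SpecialLinearGroup (Fin n) K) ^ p ^ k = 1 := by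
    have h1 : (x : SpecialLinearGroup (Fin n) K) ^ p ^ k = 1 := by simpa using congrArg Subtype.val hk
    show ⇈((x : SpecialLinearGroup (Fin n) K) ^ p ^ k) = 1
    rw [h1]; rfl
  have hdiag : ∀ (m : ℕ) (i : Fin n), (⇈(x : SpecialLinearGroup (Fin n) K) ^ m) i i =
      ⇈(x : SpecialLinearGroup (Fin n) K) i i ^ m ∧
      (⇈(x : SpecialLinearGroup (Fin n) K) ^ m).BlockTriangular id := by
    intro m
    induction m with
    | zero => intro i; simp [Matrix.blockTriangular_one]
    | succ m ih =>
      intro i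
      refine ⟨?_, by rw [pow_succ]; exact (ih i).2.mul hT⟩
      rw [pow_succ, pow_succ, Matrix.mul_apply, Finset.sum_eq_single i, (ih i).1]
      · intro l _ hl
        rcases lt_or_gt_of_ne hl with h | h
        · rw [(ih i).2 (show id l < id i from h), zero_mul]
        · rw [hT (show id i < id l from h), mul_zero]
      · simp
  refine ⟨hT, fun i => ?_⟩
  have h1 := (hdiag (p ^ k) i).1
  rw [hk', Matrix.one_apply_eq] at h1
  have h2 : (⇈(x : SpecialLinearGroup (Fin n) K) i i - 1) ^ p ^ k = 0 := by
    rw [sub_pow_char_pow, ← h1, one_pow, sub_self]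
  exact sub_eq_zero.1 (eq_zero_of_pow_eq_zero h2)

end Cfsg.Agent.UniTri
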